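import Groth.Agent.KFlat.RpushPerfect
import Groth.Agent.CohBase.TorBC.Exact

/-!
# Relative tor amplitude of derived direct images
-/

set_option autoImplicit false
set_option linter.style.haveILetI false

universe u

open CategoryTheory CategoryTheory.Limits MonoidalCategory AlgebraicGeometry DerivedCategory
open Groth.Agent.KFlat Groth.Agent.KFlat.Pull Groth.Agent.KFlat.RPush Groth.Agent.CohDerLib
open CategoryTheory.Pretriangulated

attribute [local instance] HasDerivedCategory.standard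

noncomputable section

namespace Groth.Agent.RpushAmp

variable {X Y S : Scheme.{u}}

/-- `Rf_*` raises the upper bound of quasi-coherent objects with cohomology in `[a, b]` by at most `N`. -/
def Bound (f : X ⟶ Y) [DCoh.HasRpush f] (N : ℕ) : Prop :=
  ∀ (W : DCoh.D X) (a b : ℤ), DCoh.IsQCohD W → W.IsGE a → W.IsLE b →
    ((DCoh.Rpush f).obj W).IsLE (b + (N : ℤ))

theorem bound_of_van (f : X ⟶ Y) [DCoh.HasRpush f] {ι : Type u} (B : ι → Y.Opens) (N : ℕ)
    (hB : ∀ (U : Y.Opens) (y : Y), y ∈ U → ∃ i, y ∈ B i ∧ B i ≤ U)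
    (hN : ∀ i, QC.Van N (QCohAcy.free (f ⁻¹ᵁ B i))) : Bound f N := fun W a b hW ha hb => by
  rw [DerivedCategory.isLE_iff]
  intro m hm
  exact QC.isZero_HD_Rpush f B hB W m fun i => QC.hom_zero_bounded (hN i) W hW a b m (by omega)

theorem exists_bound (f : X ⟶ Y) [QuasiCompact f] [QuasiSeparated f] [CompactSpace Y] [DCoh.HasRpush f] :
    ∃ N, Bound f N := by
  obtain ⟨ι, B, N, hB, hN⟩ := QC.exists_bound f
  exact ⟨N, bound_of_van f B N hB hN⟩

theorem bound_of_sheaf (f : X ⟶ Y) [DCoh.HasRpush f] (N : ℕ)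
    (hN : ∀ M : X.Modules, Coh.IsQCoh M → ∀ i : ℤ, (N : ℤ) < i →
      IsZero (DCoh.HD ((DCoh.Rpush f).obj (DCoh.inD X M)) i)) : Bound f N := by
  have hEx := CohBase.TorBC.ex_Rpush f
  have h0 : ∀ Z, IsZero Z → IsZero ((DCoh.Rpush f).obj Z) := fun Z hZ => Functor.map_isZero _ hZ
  have hone : ∀ (W : X.Modules) (n : ℤ), Coh.IsQCoh W →
      ((DCoh.Rpush f).obj ((singleFunctor X.Modules n).obj W)).IsLE (n + (N : ℤ)) := by
    intro W n hW
    have key : ∀ m : ℤ, ∃ e : (DCoh.Rpush f).obj ((singleFunctor X.Modules (m - 1)).obj W) ≅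
        ((DCoh.Rpush f).obj ((singleFunctor X.Modules m).obj W))⟦(1 : ℤ)⟧, True := fun m => by
      obtain ⟨e⟩ := hEx.nonempty_shift h0 ((singleFunctor X.Modules m).obj W)
      exact ⟨(DCoh.Rpush f).mapIso
        (((singleFunctors X.Modules).shiftIso (1 : ℤ) (m - 1) m (by omega)).app W).symm ≪≫ e, trivial⟩
    induction n using Int.induction_on with
    | zero =>
      rw [DerivedCategory.isLE_iff]
      exact fun i hi => hN W hW i (by omega)
    | succ m ih =>
      obtain ⟨e, -⟩ := key (m + 1)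
      rw [show ((m : ℤ) + 1 - 1) = m by omega] at e
      have := TStructure.t.isLE_of_iso e ((m : ℤ) + N)
      have h1 := TStructure.t.isLE_shift
        (((DCoh.Rpush f).obj ((singleFunctor X.Modules ((m : ℤ) + 1)).obj W))⟦(1 : ℤ)⟧)
        ((m : ℤ) + N) (-1) ((m : ℤ) + 1 + N) (by omega)
      exact @Triangulated.TStructure.isLE_of_iso _ _ _ _ _ _ _ TStructure.t _ _
        ((shiftFunctorCompIsoId (DCoh.D Y) (1 : ℤ) (-1) (by omega)).app _) ((m : ℤ) + 1 + N) h1
    | pred m ih =>
      obtain ⟨e, -⟩ := key (-(m : ℤ))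
      have := TStructure.t.isLE_shift ((DCoh.Rpush f).obj ((singleFunctor X.Modules (-(m : ℤ))).obj W))
        (-(m : ℤ) + N) 1 (-(m : ℤ) - 1 + N) (by omega)
      exact TStructure.t.isLE_of_iso e.symm _
  intro W a b hW ha hb
  obtain ⟨n, hn⟩ : ∃ n : ℕ, b < a + n := ⟨(b - a).toNat + 1, by omega⟩
  induction n generalizing a W with
  | zero =>
    have hz : IsZero W := by
      rw [IsZero.iff_id_eq_zero]
      exact TStructure.t.zero_of_isLE_of_isGE _ b a (by omega) inferInstance inferInstance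
    rw [DerivedCategory.isLE_iff]
    exact fun i _ => Functor.map_isZero _ (Functor.map_isZero _ hz)
  | succ n ih =>
    by_cases hab : b < a
    · exact ih W a hW ha hb (by omega)
    let g : W ⟶ (TStructure.t.truncGE (a + 1)).obj W := (TStructure.t.truncGEπ (a + 1)).app W
    obtain ⟨V, v, h, hT, ⟨e⟩⟩ := HComp.fibre_single g a
      (fun i hi => HComp.isIso_homology_truncGEπ W (a + 1) i hi)
    have hV : V.IsQuasicoherent := QC.qcoh_iso e.symm (hW a)
    have h3 := ih ((TStructure.t.truncGE (a + 1)).obj W) (a + 1) (QC.isQCohD_truncGE hW _) inferInstance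
      (QC.isLE_truncGE W (a + 1) b) (by omega)
    have h1' := hone V a hV
    have h1 : ((DCoh.Rpush f).obj ((singleFunctor X.Modules a).obj V)).IsLE (b + (N : ℤ)) :=
      TStructure.t.isLE_of_le _ (a + (N : ℤ)) _ (by omega)
    obtain ⟨δ, hδ⟩ := RPushTriangle.distinguished_Rpush f _ hT
    exact TStructure.t.isLE₂ _ hδ (b + (N : ℤ)) h1 h3

/-- Tor amplitude of a direct image over a quasi-separated base. -/
theorem hasTorAmplitude_Rpush [QuasiSeparatedSpace S] (f : X ⟶ Y) [QuasiCompact f] [QuasiSeparated f]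
    [DCoh.HasRpush f] (q : Y ⟶ S) (N : ℕ) (hN : Bound f N) (F : CochainComplex X.Modules ℤ)
    (hqc : DCoh.IsQCohD (DCoh.toD X F)) (a b : ℤ) (hF : DerSch.HasTorAmplitude (f ≫ q) a b F)
    (R : CochainComplex Y.Modules ℤ) (eR : DCoh.toD Y R ≅ (DCoh.Rpush f).obj (DCoh.toD X F)) :
    DerSch.HasTorAmplitude q a (b + (N : ℤ)) R := by
  intro y
  let φ := (q.stalkMap y).hom
  have : (ModuleCat.restrictScalars.{u} φ).PreservesHomology := Functor.preservesHomologyOfExact _
  let K₀ := (BaseChange.resCx φ).obj ((StalkCx.stCx y).obj R)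
  obtain ⟨K, π, hK, -, hπ, -⟩ := Groth.Agent.DRing.KProjRes.exists_resolution K₀
  have hKflat := Groth.Agent.DRing.KFlat.isKFlat_of_isKProjective K
  have : IsIso (DerivedCategory.Q.map π) :=
    (DerivedCategory.isIso_Q_map_iff_quasiIso (C := ModuleCat.{u} _) π).2 hπ
  let eK : DRing.toD K ≅ DRing.toD ((DerSch.stalkCxOver q y).obj R) :=
    @asIso _ _ _ _ (DerivedCategory.Q.map π) this
  refine (Groth.Agent.DRing.TorAmp.hasTorAmp_iff hKflat eK a _).2 fun M i hi => ?_
  obtain ⟨G, hG, ⟨cM⟩⟩ := TorQCoh.exists_qcoh_stalk (q.base y) M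
  let S0G := (HomologicalComplex.single S.Modules (ComplexShape.up ℤ) 0).obj G
  let P := (resY S).obj S0G
  have hP : DCoh.IsKFlat P := isKFlat_resY S0G
  have := quasiIso_resYπ S0G
  have hS : DCoh.IsQCohD (DCoh.toD S S0G) := QCohModel.isQCohD_Q_of_terms S0G fun j => by
    by_cases hj : j = 0
    · subst hj
      exact @QCoh.isQuasicoherent_of_iso _ _ _ (HomologicalComplex.singleObjXSelf (ComplexShape.up ℤ) 0 G).symm hG
    · exact QC.qcoh_of_isZero (HomologicalComplex.isZero_single_obj_X _ _ _ _ hj)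
  have hPq : DCoh.IsQCohD (DCoh.toD S P) :=
    QCohModel.isQCohD_of_iso (asIso (DerivedCategory.Q.map ((resYπ S).app S0G))).symm hS
  let P₁ := (pullCx q).obj P
  have hP₁ : DCoh.IsKFlat P₁ := isKFlat_pullCx q hP
  have hP₁q : DCoh.IsQCohD (DCoh.toD Y P₁) := QCohModel.isQCohD_pullCx q hP hPq
  let P₂ := (pullCx f).obj P₁
  have hP₂ : DCoh.IsKFlat P₂ := isKFlat_pullCx f hP₁
  have hP₂q : DCoh.IsQCohD (DCoh.toD X P₂) := QCohModel.isQCohD_pullCx f hP₁ hP₁q
  have := LTensor.hasLTensorCx P₁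
  have := LTensor.hasLTensorCx P₂
  have : DCoh.HasLpull f := Pull.hasLpull f
  have := isIso_toPull f hP₁
  obtain ⟨e⟩ := Groth.Agent.S1118.result f (DCoh.toD X F) hqc P₁ hP₁q P₂ ⟨(asIso ((toPull f).app P₁)).symm⟩
  let W := (DCoh.LTensorCx P₂).obj (DCoh.toD X F)
  have hW : DCoh.IsQCohD W := QCohTensor.isQCohD_LTensorCx _ hP₂q _ hqc
  have hz : ∀ j, j < a ∨ b < j → IsZero (DCoh.HD W j) := fun j hj => by
    have := LTensor.isIso_toTensor_of_kflat P₂ hP₂ F
    have h0 := RelTor.isZero_homology_pull_tensor (f ≫ q) F P hP G ((resYπ S).app S0G) a b hF j hj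
    refine (h0.of_iso ((DerivedCategory.homologyFunctorFactors _ j).app _ ≪≫
        (HomologicalComplex.homologyFunctor _ _ j).mapIso
          (((tensFlipIso X.sheaf).app P₂).app F ≪≫
            (DCoh.tensorCx.mapIso ((pullCxComp f q).app P)).app F))).of_iso
      ((DerivedCategory.homologyFunctor _ j).mapIso
        (@asIso _ _ _ _ ((LTensor.toTensor P₂).app F) this))
  have : W.IsGE a := (DerivedCategory.isGE_iff W a).2 fun j hj => hz j (Or.inl hj)
  have : W.IsLE b := (DerivedCategory.isLE_iff W b).2 fun j hj => hz j (Or.inr hj)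
  have hge := Groth.Agent.S11115.result f W a
  have hle := hN W a b hW inferInstance inferInstance
  have := LTensor.isIso_toTensor_of_kflat P₁ hP₁ R
  let eT : DerivedCategory.Q.obj ((DCoh.tensorCx.obj R).obj P₁) ≅ (DCoh.Rpush f).obj W :=
    (@asIso _ _ _ _ ((LTensor.toTensor P₁).app R) this).symm ≪≫ (DCoh.LTensorCx P₁).mapIso eR ≪≫ e
  have hv : IsZero (((DCoh.tensorCx.obj R).obj P₁).homology i) := by
    refine IsZero.of_iso ?_ (((homologyFunctorFactors Y.Modules i).app _).symm ≪≫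
      (DerivedCategory.homologyFunctor _ i).mapIso eT)
    rcases hi with hi | hi
    · exact DerivedCategory.isZero_of_isGE _ a i hi
    · exact DerivedCategory.isZero_of_isLE _ (b + (N : ℤ)) i hi
  have hst : IsZero (((StalkCx.stCx y).obj ((DCoh.tensorCx.obj R).obj P₁)).homology i) :=
    ((DerSch.stalkFunctor Y y).map_isZero hv).of_iso
      ((((DCoh.tensorCx.obj R).obj P₁).sc i).mapHomologyIso (DerSch.stalkFunctor Y y))
  let s := q.base y
  let Ps := (StalkCx.stCx s).obj P
  let C := (StalkCx.stCx y).obj R ⊗ (BaseChange.extCx φ).obj Ps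
  have hC : IsZero (C.homology i) := hst.of_iso ((HomologicalComplex.homologyFunctor _ _ i).mapIso
    (StalkCx.stTensIso y R P₁ ≪≫ MonoidalCategory.whiskerLeftIso _ (stPullIso q y P))).symm
  have hres : IsZero ((K₀ ⊗ Ps).homology i) :=
    (((ModuleCat.restrictScalars.{u} φ).map_isZero hC).of_iso
      ((C.sc i).mapHomologyIso (ModuleCat.restrictScalars φ))).of_iso
      ((HomologicalComplex.homologyFunctor _ _ i).mapIso
        (BaseChange.projCxIso φ ((StalkCx.stCx y).obj R) Ps)).symm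
  have hPs := (StalkCx.isKFlat_iff_stalk P).1 hP s
  have := Groth.Agent.DRing.KFlat.quasiIso_whiskerRight hPs π
  have hKP : IsZero ((K ⊗ Ps).homology i) := hres.of_iso (isoOfQuasiIsoAt (π ▷ Ps) i)
  have hq : QuasiIso ((StalkCx.stCx s).map ((resYπ S).app S0G)) := inferInstance
  let q₀ : Ps ⟶ Groth.Agent.DRing.SingleTensor.S0 ((DerSch.stalkFunctor S s).obj G) :=
    (StalkCx.stCx s).map ((resYπ S).app S0G) ≫
      ((HomologicalComplex.singleMapHomologicalComplex (DerSch.stalkFunctor S s) (ComplexShape.up ℤ) 0).app G).hom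
  have hq₀ : QuasiIso q₀ := quasiIso_comp (hφ := hq) (hφ' := inferInstance) ..
  let q' : Ps ⟶ Groth.Agent.DRing.SingleTensor.S0 M :=
    q₀ ≫ ((HomologicalComplex.single _ (ComplexShape.up ℤ) 0).mapIso cM).hom
  have : QuasiIso q' := quasiIso_comp (hφ := hq₀) (hφ' := inferInstance) ..
  have := Groth.Agent.DRing.KFlat.quasiIso_whiskerRight hKflat q'
  have hPK : IsZero ((Ps ⊗ K).homology i) := hKP.of_iso
    ((HomologicalComplex.homologyFunctor _ _ i).mapIso (Groth.Agent.DRing.Tensor.braid K Ps)).symm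
  rw [HomologicalComplex.exactAt_iff_isZero_homology]
  exact (hPK.of_iso (isoOfQuasiIsoAt (q' ▷ K) i).symm).of_iso
    ((HomologicalComplex.homologyFunctor _ _ i).mapIso (Groth.Agent.DRing.SingleTensor.iso M K))

end Groth.Agent.RpushAmp
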