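import Groth.Agent.PCohD.TorComp
import Groth.Agent.KFlat.FlatPull
import Groth.Agent.PCohD.PerfAmp

/-!
# Relative tor amplitude and restriction to an open
-/

set_option autoImplicit false
set_option linter.style.haveILetI false

universe u

open CategoryTheory CategoryTheory.Limits MonoidalCategory AlgebraicGeometry DerivedCategory
open Groth.Agent.KFlat Groth.Agent.KFlat.Pull
open Groth.Agent.DRing (SingleTensor.restrictExtendIso)

attribute [local instance] HasDerivedCategory.standard

noncomputable section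

namespace Groth.Agent.RpushAmp

/-- Extending along a bijection and restricting back. -/
def resExtIso {A B : Type u} [CommRing A] [CommRing B] (φ : A →+* B) (hφ : Function.Bijective φ) :
    ModuleCat.extendScalars.{u, u, u} φ ⋙ ModuleCat.restrictScalars φ ≅ 𝟭 (ModuleCat.{u} A) :=
  letI := φ.toAlgebra
  Groth.Agent.DRing.SingleTensor.restrictExtendIso φ ≪≫
    (MonoidalCategory.tensoringRight (ModuleCat.{u} A)).mapIso
      ((show ((ModuleCat.restrictScalars φ).obj (ModuleCat.of B B) : Type u) ≃ₗ[A] A from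
        (LinearEquiv.ofBijective (Algebra.linearMap A B) hφ).symm).toModuleIso) ≪≫
    rightUnitorNatIso (ModuleCat.{u} A)

variable {U Y S : Scheme.{u}}

/-- The stalk complex at a point of an open, over the local ring of the base. -/
def stalkRestrIso (j : U ⟶ Y) [IsOpenImmersion j] (q : Y ⟶ S) (u : U) (F : CochainComplex Y.Modules ℤ) :
    (DerSch.stalkCxOver (j ≫ q) u).obj ((pullCx j).obj F) ≅ (DerSch.stalkCxOver q (j u)).obj F :=
  Groth.Agent.PCohD.TorComp.stalkCxCompIso j q u _ ≪≫
    (DRing.restrictCx ((j.stalkMap u).hom.comp (q.stalkMap (j u)).hom)).mapIso (stPullIso j u F) ≪≫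
    Groth.Agent.PCohD.TorComp.restrictCompIso (q.stalkMap (j u)).hom (j.stalkMap u).hom _ ≪≫
    (DRing.restrictCx (q.stalkMap (j u)).hom).mapIso
      ((NatIso.mapHomologicalComplex (resExtIso (j.stalkMap u).hom
        (ConcreteCategory.bijective_of_isIso (j.stalkMap u))) (ComplexShape.up ℤ)).app
          ((StalkCx.stCx (j u)).obj F)) ≪≫
    (Groth.Agent.PCohD.TorComp.stalkCxOverRefl q (j u) F).symm

/-- Tor amplitude at a point is local on the source. -/
theorem hasTorAmplitudeAt_restrict_iff (j : U ⟶ Y) [IsOpenImmersion j] (q : Y ⟶ S) (u : U)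
    (F : CochainComplex Y.Modules ℤ) (G : CochainComplex U.Modules ℤ)
    (e : DCoh.toD U G ≅ (DCoh.restrictD j).obj (DCoh.toD Y F)) (a b : ℤ) :
    DerSch.HasTorAmplitudeAt (j ≫ q) a b G u ↔ DerSch.HasTorAmplitudeAt q a b F (j u) := by
  let e' : DCoh.toD U G ≅ DCoh.toD U ((pullCx j).obj F) :=
    e ≪≫ Groth.Agent.PerfTri.Perfect.restrQ j F ≪≫ DerivedCategory.Q.mapIso
      ((NatIso.mapHomologicalComplex (Scheme.Modules.restrictFunctorIsoPullback j) (ComplexShape.up ℤ)).app F)
  let e'' := Groth.Agent.PCohD.Thick.stalkCxOverIso (j ≫ q) u e' ≪≫ DerivedCategory.Q.mapIso (stalkRestrIso j q u F)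
  exact ⟨Groth.Agent.DRing.TorAmp.torAmp_of_iso e'', Groth.Agent.DRing.TorAmp.torAmp_of_iso e''.symm⟩

/-- Raising nothing: an interval may be enlarged. -/
theorem hasTorAmplitudeAt_mono {X : Scheme.{u}} (f : X ⟶ S) (x : X) (F : CochainComplex X.Modules ℤ) {a b a' b' : ℤ}
    (ha : a' ≤ a) (hb : b ≤ b') (h : DerSch.HasTorAmplitudeAt f a b F x) :
    DerSch.HasTorAmplitudeAt f a' b' F x := by
  obtain ⟨E, hv, hf, he⟩ := h
  exact ⟨E, fun i hi => hv i (by omega), hf, he⟩

end Groth.Agent.RpushAmp
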