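import Groth.Agent.RpushAmp.Core
import Groth.Agent.RpushAmp.Restrict
import Groth.Agent.DRing.TorAmp

/-!
# Relative tor amplitude of direct images, local forms
-/

set_option autoImplicit false
set_option linter.style.haveILetI false

universe u

open CategoryTheory CategoryTheory.Limits MonoidalCategory AlgebraicGeometry DerivedCategory
open Groth.Agent.KFlat Groth.Agent.KFlat.Pull Groth.Agent.KFlat.RPush Groth.Agent.CohDerLib

attribute [local instance] HasDerivedCategory.standard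

noncomputable section

namespace Groth.Agent.RpushAmp

/-- Tor amplitude and restriction along a bijection. -/
theorem torAmp_restrict_bijective {A B : Type u} [CommRing A] [CommRing B] (θ : A →+* B)
    (hθ : Function.Bijective θ) (K : DRing.Cx B) {a b : ℤ}
    (h : DRing.HasTorAmplitudeIn B a b (DRing.toD K)) :
    DRing.HasTorAmplitudeIn A a b (DRing.toD ((DRing.restrictCx θ).obj K)) := by
  obtain ⟨E, hv, hf, ⟨e⟩⟩ := h
  refine ⟨(DRing.restrictCx θ).obj E, fun i hi => (ModuleCat.restrictScalars.{u} θ).map_isZero (hv i hi),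
    fun i => ?_, ⟨((ModuleCat.restrictScalars.{u} θ).mapDerivedCategoryFactors.app E).symm ≪≫
      (DRing.restrictD θ).mapIso e ≪≫ (ModuleCat.restrictScalars.{u} θ).mapDerivedCategoryFactors.app K⟩⟩
  let := θ.toAlgebra
  let := Module.compHom (E.X i) θ
  have : IsScalarTower A B (E.X i) := IsScalarTower.of_compHom _ _ _
  have : Module.Flat A B := RingHom.Flat.of_bijective (f := θ) hθ
  have : Module.Flat B (E.X i) := hf i
  exact Module.Flat.trans A B (E.X i)

/-- Restriction along mutually inverse maps. -/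
def restrictInvIso {A B : Type u} [CommRing A] [CommRing B] (θ : A →+* B) (ψ : B →+* A)
    (h : θ.comp ψ = RingHom.id B) (K : DRing.Cx B) :
    (DRing.restrictCx ψ).obj ((DRing.restrictCx θ).obj K) ≅ K :=
  (Groth.Agent.PCohD.TorComp.restrictCompIso ψ θ K).symm ≪≫
    (NatIso.mapHomologicalComplex (ModuleCat.restrictScalarsId' (θ.comp ψ) h) (ComplexShape.up ℤ)).app K ≪≫
    (Functor.mapHomologicalComplexIdIso _ _).app K

variable {X Y S : Scheme.{u}}

/-- Relative tor amplitude at a point does not change under an open immersion of the base. -/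
theorem hasTorAmplitudeAt_comp_open_iff {V : Scheme.{u}} (h : Y ⟶ V) (j : V ⟶ S) [IsOpenImmersion j]
    (F : CochainComplex Y.Modules ℤ) (y : Y) (a b : ℤ) :
    DerSch.HasTorAmplitudeAt (h ≫ j) a b F y ↔ DerSch.HasTorAmplitudeAt h a b F y := by
  let θ := (j.stalkMap (h y)).hom
  let e : (DerSch.stalkCxOver (h ≫ j) y).obj F ≅ (DRing.restrictCx θ).obj ((DerSch.stalkCxOver h y).obj F) :=
    Groth.Agent.PCohD.TorComp.stalkCxCompIso h j y F ≪≫
      Groth.Agent.PCohD.TorComp.restrictCompIso θ (h.stalkMap y).hom _ ≪≫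
      (DRing.restrictCx θ).mapIso (Groth.Agent.PCohD.TorComp.stalkCxOverRefl h y F).symm
  have hθ : Function.Bijective θ := ConcreteCategory.bijective_of_isIso (j.stalkMap (h y))
  constructor
  · intro H
    let ψ := (RingEquiv.ofBijective θ hθ).symm.toRingHom
    have hid : θ.comp ψ = RingHom.id _ :=
      RingHom.ext fun x => (RingEquiv.ofBijective θ hθ).apply_symm_apply x
    have hψ : Function.Bijective ψ := (RingEquiv.ofBijective θ hθ).symm.bijective
    exact Groth.Agent.DRing.TorAmp.torAmp_of_iso (DerivedCategory.Q.mapIso (restrictInvIso θ ψ hid _))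
      (torAmp_restrict_bijective ψ hψ _
        (Groth.Agent.DRing.TorAmp.torAmp_of_iso (DerivedCategory.Q.mapIso e) H))
  · exact fun H => Groth.Agent.DRing.TorAmp.torAmp_of_iso (DerivedCategory.Q.mapIso e).symm
      (torAmp_restrict_bijective θ hθ _ H)

/-- Near every point of an affine chart: a local bound. -/
theorem exists_amp_chart (f : X ⟶ Y) [QuasiCompact f] [QuasiSeparated f] [DCoh.HasRpush f] (q : Y ⟶ S)
    (F : CochainComplex X.Modules ℤ) (hqc : DCoh.IsQCohD (DCoh.toD X F)) {U : Y.Opens} (hU : IsAffineOpen U)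
    {V : S.Opens} (hV : IsAffineOpen V) (hUV : U ≤ q ⁻¹ᵁ V) :
    ∃ N : ℕ, ∀ a b : ℤ, (∀ x : X, f x ∈ U → DerSch.HasTorAmplitudeAt (f ≫ q) a b F x) →
      ∀ (R : CochainComplex Y.Modules ℤ), Nonempty (DCoh.toD Y R ≅ (DCoh.Rpush f).obj (DCoh.toD X F)) →
      ∀ y : Y, y ∈ U → DerSch.HasTorAmplitudeAt q a (b + (N : ℤ)) R y := by
  let f' := f ∣_ U
  let g := q.resLE V U hUV
  have : IsAffine (U : Scheme.{u}) := hU
  have : IsAffine (V : Scheme.{u}) := hV
  have := hasRpush f'
  obtain ⟨N, hN⟩ := exists_bound f'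
  refine ⟨N, fun a b hF R ⟨eR⟩ y hy => ?_⟩
  let F' := (DCoh.restrictCx (f ⁻¹ᵁ U)).obj F
  let eF : DCoh.toD _ F' ≅ (DCoh.restrictD (f ⁻¹ᵁ U).ι).obj (DCoh.toD X F) :=
    (Groth.Agent.PerfTri.Perfect.restrQ _ F).symm
  let R' := (DCoh.restrictCx U).obj R
  let eR' : DCoh.toD _ R' ≅ (DCoh.restrictD U.ι).obj (DCoh.toD Y R) :=
    (Groth.Agent.PerfTri.Perfect.restrQ _ R).symm
  let eR'' : DCoh.toD _ R' ≅ (DCoh.Rpush f').obj (DCoh.toD _ F') :=
    eR' ≪≫ (DCoh.restrictD U.ι).mapIso eR ≪≫ (RPushBase.restrictRpushIso f U).app _ ≪≫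
      (DCoh.Rpush f').mapIso eF.symm
  have hqc' : DCoh.IsQCohD (DCoh.toD _ F') :=
    QCohModel.isQCohD_of_iso eF.symm (PCNoeth.isQCohD_restrictD _ hqc)
  have hF' : DerSch.HasTorAmplitude (f' ≫ g) a b F' := fun x => by
    have h1 : DerSch.HasTorAmplitudeAt ((f ⁻¹ᵁ U).ι ≫ f ≫ q) a b F' x :=
      (hasTorAmplitudeAt_restrict_iff (f ⁻¹ᵁ U).ι (f ≫ q) x F F' eF a b).2 (hF _ x.2)
    have h2 : DerSch.HasTorAmplitudeAt ((f' ≫ g) ≫ V.ι) a b F' x := by
      have e : (f' ≫ g) ≫ V.ι = (f ⁻¹ᵁ U).ι ≫ f ≫ q := by simp [f', g]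
      rw [e]
      exact h1
    exact (hasTorAmplitudeAt_comp_open_iff (f' ≫ g) V.ι F' x a b).1 h2
  have h3 := hasTorAmplitude_Rpush f' g N hN F' hqc' a b hF' R' eR'' ⟨y, hy⟩
  have h4 := (hasTorAmplitudeAt_comp_open_iff g V.ι R' ⟨y, hy⟩ a (b + (N : ℤ))).2 h3
  rw [show g ≫ V.ι = U.ι ≫ q by simp [g]] at h4
  exact (hasTorAmplitudeAt_restrict_iff U.ι q ⟨y, hy⟩ R R' eR' a _).1 h4

/-- Locally finite tor amplitude passes to direct images. -/
theorem locFinite_Rpush (f : X ⟶ Y) [QuasiCompact f] [QuasiSeparated f] [DCoh.HasRpush f] (q : Y ⟶ S)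
    (F : CochainComplex X.Modules ℤ) (hqc : DCoh.IsQCohD (DCoh.toD X F))
    (hF : DerSch.LocFiniteTorAmplitude (f ≫ q) F) :
    DerSch.LocFiniteTorAmplitudeD q ((DCoh.Rpush f).obj (DCoh.toD X F)) := by
  intro R hR y
  obtain ⟨V, hV, hyV, -⟩ := exists_isAffineOpen_mem_and_subset (show q y ∈ (⊤ : S.Opens) from trivial)
  obtain ⟨U, hU, hyU, hUV⟩ := exists_isAffineOpen_mem_and_subset (show y ∈ q ⁻¹ᵁ V from hyV)
  obtain ⟨N, hN⟩ := exists_amp_chart f q F hqc hU hV hUV
  choose W a b hxW hW using hF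
  have hc : IsCompact ((f ⁻¹ᵁ U : X.Opens) : Set X) := QuasiCompact.isCompact_preimage (f := f) (U : Set Y) U.2 hU.isCompact
  obtain ⟨t, ht⟩ := hc.elim_finite_subcover (fun x => (W x : Set X)) (fun x => (W x).2)
    (fun x _ => Set.mem_iUnion.mpr ⟨x, hxW x⟩)
  obtain ⟨A, hA⟩ := (t.image a).bddBelow
  obtain ⟨B, hB⟩ := (t.image b).bddAbove
  refine ⟨U, A, B + (N : ℤ), hyU, fun y' hy' => hN A B (fun x hx => ?_) R hR y' hy'⟩
  obtain ⟨z, hz, hxz⟩ := Set.mem_iUnion₂.mp (ht hx)
  exact hasTorAmplitudeAt_mono (f ≫ q) x F (hA (Finset.mem_image_of_mem a hz))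
    (hB (Finset.mem_image_of_mem b hz)) (hW z x hxz)

/-- Cohomology of a complex of tor amplitude `[a, b]` over the base lives in `[a, b]`. -/
theorem bounds_of_amp (p : X ⟶ S) (F : CochainComplex X.Modules ℤ) (a b : ℤ)
    (hF : DerSch.HasTorAmplitude p a b F) (i : ℤ) (hi : i < a ∨ b < i) : IsZero (F.homology i) := by
  refine StalkCx.isZero_of_isZero_stalk fun x => ?_
  obtain ⟨E, hv, -, ⟨e⟩⟩ := hF x
  let φ := (p.stalkMap x).hom
  have : (ModuleCat.restrictScalars.{u} φ).PreservesHomology := Functor.preservesHomologyOfExact _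
  have h0 : IsZero (((DerSch.stalkCxOver p x).obj F).homology i) :=
    (((HomologicalComplex.exactAt_iff_isZero_homology E i).1
      (HomologicalComplex.ExactAt.of_isZero (K := E) (i := i) (hv i hi))).of_iso
        ((DerivedCategory.homologyFunctorFactors _ i).app E)).of_iso
      ((DerivedCategory.homologyFunctor _ i).mapIso e.symm) |>.of_iso
      ((DerivedCategory.homologyFunctorFactors _ i).app _).symm
  have h1 : IsZero ((((StalkCx.stCx x).obj F)).homology i) :=
    BaseChange.isZero_of_restrictScalars φ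
      ((h0.of_iso ((HomologicalComplex.homologyFunctor _ _ i).mapIso
        (Groth.Agent.PCohD.TorComp.stalkCxOverRefl p x F)).symm).of_iso
        ((((StalkCx.stCx x).obj F).sc i).mapHomologyIso (ModuleCat.restrictScalars φ)).symm)
  exact h1.of_iso ((F.sc i).mapHomologyIso (DerSch.stalkFunctor X x)).symm

/-- A global vanishing bound sharpens the upper end of the tor amplitude. -/
theorem hasTorAmplitude_Rpush_bound (f : X ⟶ Y) [QuasiCompact f] [QuasiSeparated f] [DCoh.HasRpush f]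
    (q : Y ⟶ S) (N : ℕ) (hN : Bound f N) (F : CochainComplex X.Modules ℤ)
    (hqc : DCoh.IsQCohD (DCoh.toD X F)) (a b : ℤ) (hF : DerSch.HasTorAmplitude (f ≫ q) a b F)
    (R : CochainComplex Y.Modules ℤ) (eR : DCoh.toD Y R ≅ (DCoh.Rpush f).obj (DCoh.toD X F)) :
    DerSch.HasTorAmplitude q a (b + (N : ℤ)) R := by
  intro y
  obtain ⟨V, hV, hyV, -⟩ := exists_isAffineOpen_mem_and_subset (show q y ∈ (⊤ : S.Opens) from trivial)
  obtain ⟨U, hU, hyU, hUV⟩ := exists_isAffineOpen_mem_and_subset (show y ∈ q ⁻¹ᵁ V from hyV)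
  obtain ⟨N', hN'⟩ := exists_amp_chart f q F hqc hU hV hUV
  have h' := hN' a b (fun x _ => hF x) R ⟨eR⟩ y hyU
  have hz : ∀ i, i < a ∨ b < i → IsZero (DCoh.HD (DCoh.toD X F) i) := fun i hi =>
    (bounds_of_amp (f ≫ q) F a b hF i hi).of_iso ((DerivedCategory.homologyFunctorFactors _ i).app F)
  have hge : (DCoh.toD X F).IsGE a := (DerivedCategory.isGE_iff _ a).2 fun i hi => hz i (Or.inl hi)
  have hle : (DCoh.toD X F).IsLE b := (DerivedCategory.isLE_iff _ b).2 fun i hi => hz i (Or.inr hi)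
  have hR := hN _ a b hqc hge hle
  let φ := (q.stalkMap y).hom
  have : (ModuleCat.restrictScalars.{u} φ).PreservesHomology := Functor.preservesHomologyOfExact _
  let K := (DerSch.stalkCxOver q y).obj R
  have hK : ∀ i, b + (N : ℤ) < i → Subsingleton (Dual.HD _ (DRing.toD K) i) := fun i hi => by
    rw [Groth.Agent.DRing.DBasic.subsingleton_HD_toD_iff]
    have h1 : IsZero (R.homology i) :=
      ((DerivedCategory.isZero_of_isLE _ (b + (N : ℤ)) i hi).of_iso
        ((DerivedCategory.homologyFunctor _ i).mapIso eR)).of_iso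
        ((DerivedCategory.homologyFunctorFactors _ i).app R).symm
    exact (((ModuleCat.restrictScalars.{u} φ).map_isZero
      (((DerSch.stalkFunctor Y y).map_isZero h1).of_iso
        ((R.sc i).mapHomologyIso (DerSch.stalkFunctor Y y)))).of_iso
      ((((StalkCx.stCx y).obj R).sc i).mapHomologyIso (ModuleCat.restrictScalars φ))).of_iso
      ((HomologicalComplex.homologyFunctor _ _ i).mapIso (Groth.Agent.PCohD.TorComp.stalkCxOverRefl q y R))
  obtain ⟨P, hb, hproj, ⟨e⟩⟩ := Groth.Agent.DRing.Trunc.exists_projRep (DRing.toD K) (b + (N : ℤ)) hK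
  have hP := Groth.Agent.DRing.TorAmp.isKFlat_of_projective hb hproj
  refine (Groth.Agent.DRing.TorAmp.hasTorAmp_iff hP e a _).2 fun M i hi => ?_
  rcases hi with hi | hi
  · exact (Groth.Agent.DRing.TorAmp.hasTorAmp_iff hP e a (b + (N' : ℤ))).1 h' M i (Or.inl hi)
  · exact HomologicalComplex.ExactAt.of_isZero (K := DRing.tensorCx P M) (i := i)
      ((tensorRight M).map_isZero (hb i hi))

end Groth.Agent.RpushAmp
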